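import Groth.Agent.CotSplit.Basic
import Mathlib.RingTheory.FiniteType
import Mathlib.RingTheory.Polynomial.Basic

/-!
`T¹` of the choice-free presentation and the split condition.
-/

set_option autoImplicit false
set_option linter.style.haveILetI false
universe u v

open Algebra KaehlerDifferential TensorProduct

namespace Groth.Agent.CotSplit

variable (A B : Type u) [CommRing A] [CommRing B] [Algebra A B]

/-- The extension of the choice-free presentation. -/
noncomputable abbrev canonExt : Extension.{u} A B := (CotT.canon A B).toExtension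

lemma toCot_single (r : CotT.CanonRels A B) :
    CotT.toCot (CotT.canon A B) ((1 : B) ⊗ₜ Finsupp.single r 1) =
      Extension.Cotangent.mk (P := canonExt A B) r := by
  rw [CotT.toCot_tmul, one_smul]
  congr 1
  exact Subtype.ext ((CotT.jmap_single _ r 1).trans (one_mul _))

lemma toCot_surjective : Function.Surjective (CotT.toCot (CotT.canon A B)) := fun x => by
  obtain ⟨r, rfl⟩ := Extension.Cotangent.mk_surjective x
  exact ⟨_, toCot_single A B r⟩

variable {A B} {M : Type v} [AddCommGroup M] [Module B M]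

lemma exists_factor (c : CotT.L1 (CotT.canon A B) →ₗ[B] M)
    (hc : c ∈ CotT.cocycles1 (CotT.canon A B) M) :
    ∃ φ : (canonExt A B).Cotangent →ₗ[B] M, φ ∘ₗ CotT.toCot (CotT.canon A B) = c := by
  let P := CotT.canon A B
  have hzero : ∀ q : CotT.relMod P, CotT.jmap P q = 0 → c ((1 : B) ⊗ₜ q) = 0 := fun q hq => by
    have h1 := LinearMap.congr_fun (LinearMap.mem_ker.1 hc)
      (Submodule.Quotient.mk ((1 : B) ⊗ₜ (⟨q, hq⟩ : CotT.relKer P)))
    rwa [CotT.d2Star_apply, LinearMap.comp_apply, CotT.d2_mk_tmul] at h1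
  letI : Module P.toExtension.Ring M := Module.compHom M (algebraMap P.toExtension.Ring B)
  haveI : IsScalarTower P.toExtension.Ring B M := IsScalarTower.of_compHom P.toExtension.Ring B M
  let E : P.toExtension.ker → CotT.relMod P := fun r => Finsupp.single (r : CotT.CanonRels A B) 1
  have hjE : ∀ r, CotT.jmap P (E r) = r.1 := fun r => (CotT.jmap_single _ r 1).trans (one_mul _)
  let e : P.toExtension.ker → CotT.L1 P := fun r => (1 : B) ⊗ₜ E r
  let φ₀ : P.toExtension.ker →ₗ[P.toExtension.Ring] M :=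
    { toFun := fun r => c (e r)
      map_add' := fun r r' => by
        have := hzero (E (r + r') - E r - E r') (by
          rw [map_sub, map_sub, hjE, hjE, hjE, Submodule.coe_add]
          abel)
        rw [TensorProduct.tmul_sub, TensorProduct.tmul_sub, map_sub, map_sub, sub_sub,
          sub_eq_zero] at this
        exact this
      map_smul' := fun a r => by
        have := hzero (E (a • r) - a • E r) (by
          rw [map_sub, map_smul, hjE, hjE, Submodule.coe_smul, sub_self])
        rw [TensorProduct.tmul_sub, map_sub, sub_eq_zero, TensorProduct.tmul_smul,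
          ← algebraMap_smul B a ((1 : B) ⊗ₜ[P.toExtension.Ring] E r), map_smul] at this
        exact this }
  have hker : (LinearMap.ker (Extension.Cotangent.mk (P := canonExt A B))) ≤ LinearMap.ker φ₀ := by
    intro x hx
    have hx' : x.1 ∈ (canonExt A B).ker ^ 2 := (Extension.Cotangent.mk_eq_zero_iff x).1 hx
    rw [sq] at hx'
    suffices ∀ y ∈ (canonExt A B).ker * (canonExt A B).ker,
        ∃ hy : y ∈ (canonExt A B).ker, φ₀ ⟨y, hy⟩ = 0 from LinearMap.mem_ker.2 (this _ hx').2
    intro y hy
    refine Submodule.mul_induction_on hy (fun a ha b hb => ?_) (fun a b ⟨h, iha⟩ ⟨h', ihb⟩ => ?_)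
    · refine ⟨Ideal.mul_mem_left _ a hb, ?_⟩
      have : φ₀ ⟨a * b, Ideal.mul_mem_left _ a hb⟩ = φ₀ (a • (⟨b, hb⟩ : P.toExtension.ker)) :=
        congrArg φ₀ (Subtype.ext rfl)
      rw [this, map_smul, ← algebraMap_smul B a, show algebraMap P.toExtension.Ring B a = 0 from ha,
        zero_smul]
    · refine ⟨Ideal.add_mem _ h h', ?_⟩
      have : φ₀ ⟨a + b, Ideal.add_mem _ h h'⟩ = φ₀ (⟨a, h⟩ + ⟨b, h'⟩) := congrArg φ₀ (Subtype.ext rfl)
      rw [this, map_add, iha, ihb, add_zero]
  let φ₁ := (Submodule.liftQ _ φ₀ hker) ∘ₗ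
    ((Extension.Cotangent.mk (P := canonExt A B)).quotKerEquivOfSurjective
      Extension.Cotangent.mk_surjective).symm.toLinearMap
  have hφ₁ : ∀ r, φ₁ (Extension.Cotangent.mk r) = c (e r) := fun r => by
    simp only [φ₁, LinearMap.coe_comp, LinearEquiv.coe_coe, Function.comp_apply]
    rw [show ((Extension.Cotangent.mk (P := canonExt A B)).quotKerEquivOfSurjective
      Extension.Cotangent.mk_surjective).symm (Extension.Cotangent.mk r) = Submodule.Quotient.mk r from
      LinearEquiv.symm_apply_eq _ |>.2 rfl]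
    rfl
  refine ⟨{ toFun := φ₁, map_add' := map_add φ₁, map_smul' := fun b x => ?_ }, ?_⟩
  · obtain ⟨p, rfl⟩ := (canonExt A B).algebraMap_surjective b
    rw [algebraMap_smul, map_smul]
    exact (algebraMap_smul B p (φ₁ x)).symm
  · refine (CotT.L1basis P).ext fun r => ?_
    rw [CotT.L1basis_apply, LinearMap.comp_apply]
    exact (congrArg φ₁ (toCot_single A B r)).trans (hφ₁ r)

lemma smul_T1_eq_zero_of_split {c : B} (h : SplitUpTo (canonExt A B) c)
    (x : CotT.T1 (CotT.canon A B) M) : c • x = 0 := by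
  obtain ⟨⟨z, hz⟩, rfl⟩ := Submodule.Quotient.mk_surjective _ x
  obtain ⟨φ, rfl⟩ := exists_factor z hz
  obtain ⟨ψ, hψ⟩ := h.exists_smul φ
  rw [← Submodule.Quotient.mk_smul, Submodule.Quotient.mk_eq_zero]
  exact ⟨ψ, by show ψ ∘ₗ CotT.d1 _ = c • _; rw [CotT.d1, ← LinearMap.comp_assoc, ← hψ]; rfl⟩

lemma exists_extend_of_smul_T1_eq_zero {c : B}
    (h : ∀ x : CotT.T1 (CotT.canon A B) M, c • x = 0) (φ : (canonExt A B).Cotangent →ₗ[B] M) :
    ∃ ψ : (canonExt A B).CotangentSpace →ₗ[B] M, c • φ = ψ ∘ₗ (canonExt A B).cotangentComplex := by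
  have h1 := h (CotT.homToT1 (CotT.canon A B) M φ)
  rw [← map_smul] at h1
  obtain ⟨ψ, hψ⟩ := (Submodule.Quotient.mk_eq_zero _).1 h1
  refine ⟨ψ, LinearMap.ext fun x => ?_⟩
  obtain ⟨y, rfl⟩ := toCot_surjective A B x
  exact (LinearMap.congr_fun hψ y).symm

/-- Smoothness away from `t` and annihilation of `T¹` by a power of `t`. -/
lemma smooth_off_iff_smul_T1 (A B : Type u) [CommRing A] [IsNoetherianRing A] [CommRing B] [Algebra A B]
    [Algebra.FiniteType A B] (t : B) :
    (∀ q : PrimeSpectrum B, t ∉ q.asIdeal → q ∈ Algebra.smoothLocus A B) ↔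
    ∃ n₀ : ℕ, ∀ (M : Type u) [AddCommGroup M] [Module B M] [Module.Finite B M],
      ∀ x : CotT.T1 (CotT.canon A B) M, t ^ n₀ • x = 0 := by
  obtain ⟨m, f₀, hf₀⟩ := Algebra.FiniteType.iff_quotient_mvPolynomial''.1 ‹Algebra.FiniteType A B›
  let G : Generators A B (Fin m) := .ofSurjective (fun i => f₀ (MvPolynomial.X i)) (by
    rw [show MvPolynomial.aeval (fun i => f₀ (MvPolynomial.X i)) = f₀ from (MvPolynomial.aeval_unique f₀).symm]
    exact hf₀)
  let Q : Extension.{u} A B := G.toExtension
  haveI : IsNoetherianRing Q.Ring := inferInstanceAs (IsNoetherianRing (MvPolynomial (Fin m) A))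
  haveI : Module.Free Q.Ring Ω[Q.Ring⁄A] :=
    inferInstanceAs (Module.Free (MvPolynomial (Fin m) A) Ω[MvPolynomial (Fin m) A⁄A])
  haveI : Module.Finite Q.Ring Ω[Q.Ring⁄A] :=
    inferInstanceAs (Module.Finite (MvPolynomial (Fin m) A) Ω[MvPolynomial (Fin m) A⁄A])
  have hQ : Q.ker.FG := IsNoetherian.noetherian _
  let f : Q.Hom (Generators.self A B).toExtension :=
    (Generators.defaultHom G (Generators.self A B)).toExtensionHom
  let g : (Generators.self A B).toExtension.Hom Q :=
    (Generators.defaultHom (Generators.self A B) G).toExtensionHom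
  haveI := Extension.Cotangent.finite hQ
  constructor
  · intro h
    obtain ⟨n, hn⟩ := exists_splitUpTo_of_smooth Q hQ f g t h
    exact ⟨n, fun M _ _ _ x => smul_T1_eq_zero_of_split
      (SplitUpTo.of_hom (P' := canonExt A B) hn f g) x⟩
  · rintro ⟨n, hn⟩
    exact smooth_of_splitUpTo Q f g t
      (splitUpTo_of_forall (P' := canonExt A B) f g fun φ =>
        exists_extend_of_smul_T1_eq_zero (hn Q.Cotangent) φ)

end Groth.Agent.CotSplit
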