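import Groth.Prelude.Def_CotT
import Mathlib.RingTheory.Smooth.Locus
import Mathlib.RingTheory.Spectrum.Prime.FreeLocus
import Mathlib.RingTheory.Extension.Cotangent.Basic

/-!
Splitting the naive cotangent complex up to a scalar, and smoothness on a basic open.
-/

set_option autoImplicit false
set_option linter.style.haveILetI false
universe u w w' v

open Algebra KaehlerDifferential TensorProduct

namespace Groth.Agent.CotSplit

variable {R S : Type u} [CommRing R] [CommRing S] [Algebra R S]

/-- The cotangent complex splits up to multiplication by `c`. -/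
def SplitUpTo (P : Extension.{w} R S) (c : S) : Prop :=
  ∃ l : P.CotangentSpace →ₗ[S] P.Cotangent, l ∘ₗ P.cotangentComplex = c • LinearMap.id

variable {P : Extension.{w} R S} {P' : Extension.{w'} R S}

lemma map_comp_apply_eq (f : P.Hom P') (g : P'.Hom P) (x : P.Cotangent) :
    Extension.Cotangent.map g (Extension.Cotangent.map f x) =
      x + (g.comp f).sub (Extension.Hom.id P) (P.cotangentComplex x) := by
  have h := LinearMap.congr_fun (Extension.Cotangent.map_sub_map (g.comp f) (Extension.Hom.id P)) x
  rw [LinearMap.sub_apply, Extension.Cotangent.map_id, LinearMap.id_apply,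
    Extension.Cotangent.map_comp, LinearMap.comp_apply, LinearMap.comp_apply] at h
  rw [← h]
  exact (add_sub_cancel x _).symm

lemma SplitUpTo.of_hom {c : S} (h : SplitUpTo P c) (f : P.Hom P') (g : P'.Hom P) :
    SplitUpTo P' c := by
  obtain ⟨l, hl⟩ := h
  refine ⟨Extension.Cotangent.map f ∘ₗ l ∘ₗ Extension.CotangentSpace.map g -
    c • (f.comp g).sub (Extension.Hom.id P'), LinearMap.ext fun x => ?_⟩
  simp only [LinearMap.coe_comp, Function.comp_apply, LinearMap.sub_apply, LinearMap.smul_apply,
    LinearMap.id_apply, Extension.CotangentSpace.map_cotangentComplex]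
  have h1 : l (P.cotangentComplex (Extension.Cotangent.map g x)) = c • Extension.Cotangent.map g x :=
    LinearMap.congr_fun hl _
  rw [h1, map_smul, map_comp_apply_eq g f, smul_add, add_sub_cancel_right]

/-- The defining condition tested against a module. -/
lemma SplitUpTo.exists_smul {c : S} (h : SplitUpTo P c) {M : Type*} [AddCommGroup M] [Module S M]
    (φ : P.Cotangent →ₗ[S] M) : ∃ ψ : P.CotangentSpace →ₗ[S] M, c • φ = ψ ∘ₗ P.cotangentComplex := by
  obtain ⟨l, hl⟩ := h
  exact ⟨φ ∘ₗ l, by rw [LinearMap.comp_assoc, hl, LinearMap.comp_smul, LinearMap.comp_id]⟩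

lemma splitUpTo_of_forall {c : S} (f : P.Hom P') (g : P'.Hom P)
    (h : ∀ φ : P'.Cotangent →ₗ[S] P.Cotangent, ∃ ψ : P'.CotangentSpace →ₗ[S] P.Cotangent,
      c • φ = ψ ∘ₗ P'.cotangentComplex) : SplitUpTo P c := by
  obtain ⟨ψ, hψ⟩ := h (Extension.Cotangent.map g)
  refine ⟨ψ ∘ₗ Extension.CotangentSpace.map f - c • (g.comp f).sub (Extension.Hom.id P),
    LinearMap.ext fun x => ?_⟩
  simp only [LinearMap.coe_comp, Function.comp_apply, LinearMap.sub_apply, LinearMap.smul_apply,
    LinearMap.id_apply, Extension.CotangentSpace.map_cotangentComplex]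
  have h1 : c • Extension.Cotangent.map g (Extension.Cotangent.map f x) =
      ψ (P'.cotangentComplex (Extension.Cotangent.map f x)) := LinearMap.congr_fun hψ _
  rw [← h1, map_comp_apply_eq f g, smul_add, add_sub_cancel_right]

section Smooth

variable [IsNoetherianRing R] [Algebra.FiniteType R S] (Q : Extension.{u} R S)
  [Module.Free Q.Ring Ω[Q.Ring⁄R]] [Module.Finite Q.Ring Ω[Q.Ring⁄R]] (hQ : Q.ker.FG)
  (f : Q.Hom (Generators.self R S).toExtension) (g : (Generators.self R S).toExtension.Hom Q) (t : S)

include f g hQ in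
omit [Module.Free Q.Ring Ω[Q.Ring⁄R]] [Module.Finite Q.Ring Ω[Q.Ring⁄R]] in
/-- Smooth away from `t`: the cotangent complex splits up to a power of `t`. -/
lemma exists_splitUpTo_of_smooth
    (h : ∀ q : PrimeSpectrum S, t ∉ q.asIdeal → q ∈ Algebra.smoothLocus R S) :
    ∃ n : ℕ, SplitUpTo Q (t ^ n) := by
  haveI : IsNoetherianRing S := Algebra.FiniteType.isNoetherianRing R S
  haveI : Algebra.FinitePresentation R S := Algebra.FinitePresentation.of_finiteType.mp inferInstance
  haveI := Extension.Cotangent.finite hQ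
  have hsub : (PrimeSpectrum.basicOpen t : Set (PrimeSpectrum S)) ⊆ Algebra.smoothLocus R S :=
    fun q hq => h q hq
  rw [Algebra.smoothLocus_eq_compl_support_inter, Set.subset_inter_iff, Set.subset_compl_comm,
    PrimeSpectrum.basicOpen_eq_zeroLocus_compl, compl_compl,
    ← LocalizedModule.subsingleton_iff_support_subset, ← PrimeSpectrum.basicOpen_eq_zeroLocus_compl,
    Module.basicOpen_subset_freeLocus_iff] at hsub
  obtain ⟨hH, hproj⟩ := hsub
  let d := Q.cotangentComplex
  obtain ⟨a, ha⟩ : ∃ a : ℕ, ∀ x ∈ LinearMap.ker d, t ^ a • x = 0 := by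
    let e := Extension.H1Cotangent.equiv f g
    obtain ⟨s, hs⟩ := (IsNoetherian.noetherian (LinearMap.ker d))
    have hall : ∀ x ∈ LinearMap.ker d, ∃ a : ℕ, t ^ a • x = 0 := fun x hx => by
      obtain ⟨_, ⟨a, rfl⟩, ha⟩ := LocalizedModule.subsingleton_iff.1 hH (e ⟨x, hx⟩)
      refine ⟨a, ?_⟩
      let y : Q.H1Cotangent := ⟨x, hx⟩
      have h0 : e (t ^ a • y) = 0 := (e.map_smul _ y).trans ha
      exact congrArg Subtype.val (e.injective (h0.trans e.map_zero.symm))
    classical
    choose k hk using fun x : s => hall x.1 (hs ▸ Submodule.subset_span x.2)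
    refine ⟨Finset.univ.sup k, fun x hx => ?_⟩
    rw [← hs] at hx
    induction hx using Submodule.span_induction with
    | mem y hy =>
      rw [← Nat.sub_add_cancel (Finset.le_sup (f := k) (Finset.mem_univ ⟨y, hy⟩)), pow_add, mul_smul,
        hk ⟨y, hy⟩, smul_zero]
    | zero => exact smul_zero _
    | add _ _ _ _ h1 h2 => rw [smul_add, h1, h2, add_zero]
    | smul r _ _ h1 => rw [smul_comm, h1, smul_zero]
  let π := Q.toKaehler
  let T := Submonoid.powers t
  let St := Localization.Away t
  let mL := LocalizedModule.mkLinearMap T Q.CotangentSpace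
  let mΩ := LocalizedModule.mkLinearMap T Ω[S⁄R]
  obtain ⟨st, hst⟩ := Module.projective_lifting_property (LocalizedModule.map T π)
    LinearMap.id (LocalizedModule.map_surjective T π Extension.toKaehler_surjective)
  let hh : Ω[S⁄R] →ₗ[S] LocalizedModule T Q.CotangentSpace := st.restrictScalars S ∘ₗ mΩ
  obtain ⟨s, ⟨_, b, rfl⟩, hs⟩ := Module.FinitePresentation.exists_lift_of_isLocalizedModule (N' := LocalizedModule T Q.CotangentSpace) T mL hh
  have hcomp : mΩ ∘ₗ (π ∘ₗ s) = mΩ ∘ₗ (t ^ b • LinearMap.id) := by
    refine LinearMap.ext fun x => ?_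
    have h1 : mΩ (π (s x)) = LocalizedModule.map T π (mL (s x)) :=
      (LocalizedModule.map_mk T π (s x) 1).symm
    have h2 : mL (s x) = t ^ b • st (mΩ x) := LinearMap.congr_fun hs x
    simp only [LinearMap.coe_comp, Function.comp_apply, LinearMap.smul_apply, LinearMap.id_apply]
    rw [h1, h2, LinearMap.map_smul_of_tower]
    rw [show LocalizedModule.map T π (st (mΩ x)) = mΩ x from LinearMap.congr_fun hst (mΩ x), map_smul]
  obtain ⟨⟨_, c, rfl⟩, hc⟩ :=
    Module.Finite.exists_smul_of_comp_eq_of_isLocalizedModule T mΩ _ _ hcomp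
  have hs' : ∀ x, π (t ^ c • s x) = t ^ (c + b) • x := fun x => by
    rw [map_smul, pow_add, mul_smul]
    exact LinearMap.congr_fun hc x
  have hex : ∀ y, ∃ x, d x = t ^ (c + b) • y - t ^ c • s (π y) := fun y => by
    refine (Q.exact_cotangentComplex_toKaehler _).1 ?_
    rw [map_sub, map_smul, hs', sub_self]
  choose x hx using hex
  have huniq : ∀ x₁ x₂, d x₁ = d x₂ → t ^ a • x₁ = t ^ a • x₂ := fun x₁ x₂ h12 => by
    rw [← sub_eq_zero, ← smul_sub]
    exact ha _ (by rw [LinearMap.mem_ker, map_sub, h12, sub_self])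
  refine ⟨a + (c + b),
    { toFun := fun y => t ^ a • x y
      map_add' := fun y z => by
        rw [← smul_add]
        refine huniq _ _ ?_
        rw [map_add, hx, hx, hx]
        simp only [map_add, smul_add]
        abel
      map_smul' := fun r y => by
        rw [RingHom.id_apply, smul_comm r (t ^ a)]
        refine huniq _ _ ?_
        rw [map_smul, hx, hx, map_smul, map_smul, smul_sub, smul_comm r (t ^ (c + b)), smul_comm r (t ^ c)] },
    LinearMap.ext fun m => ?_⟩
  show t ^ a • x (d m) = t ^ (a + (c + b)) • m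
  rw [pow_add, mul_smul]
  refine huniq _ _ ?_
  rw [hx, map_smul, Q.exact_cotangentComplex_toKaehler.apply_apply_eq_zero, map_zero, smul_zero,
    sub_zero]

include f g in
omit [Module.Finite Q.Ring Ω[Q.Ring⁄R]] in
/-- A splitting up to a power of `t` gives smoothness away from `t`. -/
lemma smooth_of_splitUpTo {n : ℕ} (h : SplitUpTo Q (t ^ n)) (q : PrimeSpectrum S)
    (hq : t ∉ q.asIdeal) : q ∈ Algebra.smoothLocus R S := by
  haveI : IsNoetherianRing S := Algebra.FiniteType.isNoetherianRing R S
  haveI : Algebra.FinitePresentation R S := Algebra.FinitePresentation.of_finiteType.mp inferInstance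
  obtain ⟨l, hl⟩ := h
  have hl' : ∀ x, l (Q.cotangentComplex x) = t ^ n • x := fun x => LinearMap.congr_fun hl x
  rw [Algebra.smoothLocus_eq_compl_support_inter]
  refine ⟨?_, ?_⟩
  · rw [Set.mem_compl_iff, Module.notMem_support_iff']
    intro m
    let e := Extension.H1Cotangent.equiv f g
    refine ⟨t ^ n, fun h1 => hq (q.2.mem_of_pow_mem n h1), e.symm.injective ?_⟩
    rw [map_smul, map_zero]
    refine Subtype.ext ?_
    show t ^ n • (e.symm m).1 = 0
    rw [← hl', LinearMap.mem_ker.1 (e.symm m).2, map_zero]
  · have hsub : (PrimeSpectrum.basicOpen t : Set (PrimeSpectrum S)) ⊆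
        Module.freeLocus S Ω[S⁄R] := by
      rw [Module.basicOpen_subset_freeLocus_iff]
      let F : Q.CotangentSpace →ₗ[S] Q.CotangentSpace :=
        t ^ n • LinearMap.id - Q.cotangentComplex ∘ₗ l
      have hF : LinearMap.range Q.cotangentComplex ≤ LinearMap.ker F := by
        rintro _ ⟨x, rfl⟩
        simp [F, hl', map_smul]
      let s := (Submodule.liftQ _ F hF) ∘ₗ
        (Q.exact_cotangentComplex_toKaehler.linearEquivOfSurjective
          Extension.toKaehler_surjective).symm.toLinearMap
      have hs : Q.toKaehler ∘ₗ s = t ^ n • LinearMap.id := by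
        refine LinearMap.ext fun z => ?_
        obtain ⟨y, rfl⟩ := Extension.toKaehler_surjective (P := Q) z
        simp only [s, LinearMap.coe_comp, LinearEquiv.coe_coe, Function.comp_apply,
          Function.Exact.linearEquivOfSurjective_symm_apply, Submodule.liftQ_apply]
        simp [F, Q.exact_cotangentComplex_toKaehler.apply_apply_eq_zero]
      let T := Submonoid.powers t
      obtain ⟨v, hv⟩ := IsLocalization.map_units (Localization T) (⟨t ^ n, n, rfl⟩ : T)
      refine Module.Projective.of_split ((↑v⁻¹ : Localization T) • LocalizedModule.map T s)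
        (LocalizedModule.map T Q.toKaehler) (LinearMap.ext fun z => ?_)
      induction z using LocalizedModule.induction_on with
      | h m r =>
        simp only [LinearMap.coe_comp, Function.comp_apply, LinearMap.smul_apply, map_smul,
          LocalizedModule.map_mk, LinearMap.id_apply]
        rw [← LinearMap.comp_apply, hs, LinearMap.smul_apply, LinearMap.id_apply,
          ← LocalizedModule.smul'_mk, ← algebraMap_smul (Localization T) (t ^ n), ← hv, smul_smul,
          Units.inv_mul, one_smul]
    exact hsub hq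

end Smooth

end Groth.Agent.CotSplit
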