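import Groth.Agent.CotSplit.T1
import Mathlib.RingTheory.Smooth.Basic
import Mathlib.FieldTheory.IsAlgClosed.Basic
import Mathlib.RingTheory.Jacobson.Ring
import Mathlib.RingTheory.Flat.TorsionFree

/-!
A rigid singular affine scheme has no smoothing.
-/

set_option autoImplicit false
set_option linter.style.haveILetI false
universe u

open Algebra KaehlerDifferential TensorProduct
open Polynomial (X)

namespace Groth.Agent.CotSplit

/-- Truncated polynomials. -/
abbrev Trunc (S : Type u) [CommRing S] (N : ℕ) : Type u :=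
  Polynomial S ⧸ Ideal.span {(Polynomial.X : Polynomial S) ^ N}

section Coef

variable {S T : Type u} [CommRing S] [CommRing T] {N : ℕ}

/-- A coefficient of a truncated polynomial. -/
noncomputable def cf (i : ℕ) (y : Trunc S N) : S :=
  (Function.surjInv Ideal.Quotient.mk_surjective y).coeff i

lemma cf_mk {i : ℕ} (hi : i < N) (p : Polynomial S) :
    cf i (Ideal.Quotient.mk _ p : Trunc S N) = p.coeff i := by
  have h : (Ideal.Quotient.mk _ (Function.surjInv Ideal.Quotient.mk_surjective
      (Ideal.Quotient.mk _ p : Trunc S N)) : Trunc S N) = Ideal.Quotient.mk _ p :=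
    Function.surjInv_eq _ _
  rw [Ideal.Quotient.eq, Ideal.mem_span_singleton, Polynomial.X_pow_dvd_iff] at h
  have := h i hi
  rwa [Polynomial.coeff_sub, sub_eq_zero] at this

lemma cf_add {i : ℕ} (hi : i < N) (x y : Trunc S N) : cf i (x + y) = cf i x + cf i y := by
  obtain ⟨p, rfl⟩ := Ideal.Quotient.mk_surjective x
  obtain ⟨q, rfl⟩ := Ideal.Quotient.mk_surjective y
  rw [← map_add, cf_mk hi, cf_mk hi, cf_mk hi, Polynomial.coeff_add]

lemma cf_C_mul {i : ℕ} (hi : i < N) (c : S) (y : Trunc S N) :
    cf i (Ideal.Quotient.mk _ (Polynomial.C c) * y) = c * cf i y := by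
  obtain ⟨q, rfl⟩ := Ideal.Quotient.mk_surjective y
  rw [← map_mul, cf_mk hi, cf_mk hi, Polynomial.coeff_C_mul]

lemma cf_X_pow_mul {n : ℕ} (hn : n < N) (y : Trunc S N) :
    cf n (Ideal.Quotient.mk _ (Polynomial.X ^ n) * y) = cf 0 y := by
  obtain ⟨q, rfl⟩ := Ideal.Quotient.mk_surjective y
  rw [← map_mul, cf_mk hn, cf_mk (by omega)]
  simpa using Polynomial.coeff_X_pow_mul q n 0

lemma cf_zero_mul (hN : 0 < N) (x y : Trunc S N) : cf 0 (x * y) = cf 0 x * cf 0 y := by
  obtain ⟨p, rfl⟩ := Ideal.Quotient.mk_surjective x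
  obtain ⟨q, rfl⟩ := Ideal.Quotient.mk_surjective y
  rw [← map_mul, cf_mk hN, cf_mk hN, cf_mk hN, Polynomial.mul_coeff_zero]

/-- Functoriality. -/
noncomputable def truncMap (f : S →+* T) : Trunc S N →+* Trunc T N :=
  Ideal.quotientMap _ (Polynomial.mapRingHom f) (Ideal.span_le.2 (by
    rw [Set.singleton_subset_iff, SetLike.mem_coe, Ideal.mem_comap]
    simpa using Ideal.mem_span_singleton_self (Polynomial.X ^ N : Polynomial T)))

lemma truncMap_mk (f : S →+* T) (p : Polynomial S) :
    truncMap (N := N) f (Ideal.Quotient.mk _ p) = Ideal.Quotient.mk _ (p.map f) :=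
  Ideal.quotientMap_mk

lemma cf_truncMap (f : S →+* T) {i : ℕ} (hi : i < N) (y : Trunc S N) :
    cf i (truncMap f y) = f (cf i y) := by
  obtain ⟨q, rfl⟩ := Ideal.Quotient.mk_surjective y
  rw [truncMap_mk, cf_mk hi, cf_mk hi, Polynomial.coeff_map]

lemma truncMap_surjective (f : S →+* T) (hf : Function.Surjective f) :
    Function.Surjective (truncMap (N := N) f) := fun y => by
  obtain ⟨q, rfl⟩ := Ideal.Quotient.mk_surjective y
  obtain ⟨p, rfl⟩ := Polynomial.map_surjective f hf q
  exact ⟨Ideal.Quotient.mk _ p, truncMap_mk f p⟩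

lemma mul_eq_zero_of_truncMap (f : S →+* T) (hf : ∀ a b, f a = 0 → f b = 0 → a * b = 0)
    (x y : Trunc S N) (hx : truncMap f x = 0) (hy : truncMap f y = 0) : x * y = 0 := by
  obtain ⟨p, rfl⟩ := Ideal.Quotient.mk_surjective x
  obtain ⟨q, rfl⟩ := Ideal.Quotient.mk_surjective y
  rw [truncMap_mk, Ideal.Quotient.eq_zero_iff_mem, Ideal.mem_span_singleton,
    Polynomial.X_pow_dvd_iff] at hx hy
  rw [← map_mul, Ideal.Quotient.eq_zero_iff_mem, Ideal.mem_span_singleton, Polynomial.X_pow_dvd_iff]
  intro d hd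
  rw [Polynomial.coeff_mul]
  refine Finset.sum_eq_zero fun ij hij => ?_
  rw [Finset.HasAntidiagonal.mem_antidiagonal] at hij
  exact hf _ _ (by simpa [Polynomial.coeff_map] using hx ij.1 (by omega))
    (by simpa [Polynomial.coeff_map] using hy ij.2 (by omega))

end Coef

section Trivial

variable {k : Type u} [Field k] {R S : Type u} [CommRing R] [CommRing S] [Algebra k R] [Algebra k S]

/-- The substitution `X ↦ t`. -/
noncomputable def substT (t : R) (N : ℕ) (σ : S →ₐ[k] R ⧸ Ideal.span {t ^ N}) :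
    Polynomial S →+* R ⧸ Ideal.span {t ^ N} :=
  Polynomial.eval₂RingHom σ.toRingHom (Ideal.Quotient.mk _ t)

lemma exists_truncEquiv (t : R) (ht : ∀ r, t * r = 0 → r = 0) (N : ℕ) (hN : 1 ≤ N)
    (σ : S →ₐ[k] R ⧸ Ideal.span {t ^ N}) (e : S ≃ₐ[k] R ⧸ Ideal.span {t})
    (hσ : ∀ s r, σ s = Ideal.Quotient.mk _ r → e s = Ideal.Quotient.mk _ r) :
    ∃ Φ : Trunc S N ≃+* R ⧸ Ideal.span {t ^ N}, ∀ p, Φ (Ideal.Quotient.mk _ p) = substT t N σ p := by
  have hC : ∀ s, substT t N σ (Polynomial.C s) = σ s := fun s => Polynomial.eval₂_C _ _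
  have hX : substT t N σ Polynomial.X = Ideal.Quotient.mk _ t := Polynomial.eval₂_X _ _
  have hsurj : Function.Surjective (substT t N σ) := by
    suffices ∀ (j : ℕ) (r : R), ∃ p, ∃ r', Ideal.Quotient.mk _ r - substT t N σ p =
        Ideal.Quotient.mk _ (t ^ j * r') by
      intro y
      obtain ⟨r, rfl⟩ := Ideal.Quotient.mk_surjective y
      obtain ⟨p, r', h⟩ := this N r
      exact ⟨p, (sub_eq_zero.1 (h.trans (Ideal.Quotient.eq_zero_iff_mem.2
        (Ideal.mul_mem_right _ _ (Ideal.mem_span_singleton_self _))))).symm⟩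
    intro j
    induction j with
    | zero => exact fun r => ⟨0, r, by simp⟩
    | succ j ih =>
      intro r
      obtain ⟨p, r', h⟩ := ih r
      let s := e.symm (Ideal.Quotient.mk _ r')
      obtain ⟨a, ha⟩ := Ideal.Quotient.mk_surjective (σ s)
      have h2 := hσ s a ha.symm
      rw [AlgEquiv.apply_symm_apply, Ideal.Quotient.eq, Ideal.mem_span_singleton'] at h2
      obtain ⟨c, hc⟩ := h2
      refine ⟨p + Polynomial.X ^ j * Polynomial.C s, c, ?_⟩
      rw [map_add, map_mul, map_pow, hC, hX, ← ha, ← sub_sub, h, ← map_pow, ← map_mul, ← map_sub]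
      congr 1
      linear_combination (-(t ^ j)) * hc
  have hker : RingHom.ker (substT t N σ) = Ideal.span {(Polynomial.X : Polynomial S) ^ N} := by
    refine le_antisymm (fun p hp => ?_) ?_
    · rw [Ideal.mem_span_singleton]
      suffices ∀ j ≤ N, (Polynomial.X : Polynomial S) ^ j ∣ p from this N le_rfl
      intro j hj
      induction j with
      | zero => exact one_dvd _
      | succ j ih =>
        obtain ⟨q, rfl⟩ := ih (by omega)
        obtain ⟨a, ha⟩ := Ideal.Quotient.mk_surjective (σ (q.coeff 0))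
        obtain ⟨b, hb⟩ := Ideal.Quotient.mk_surjective (substT t N σ (Polynomial.divX q))
        have hq : q = Polynomial.C (q.coeff 0) + Polynomial.X * Polynomial.divX q :=
          (Polynomial.X_mul_divX_add q).symm.trans (add_comm _ _)
        rw [RingHom.mem_ker, map_mul, map_pow, hX, hq, map_add, map_mul, hC, hX, ← ha, ← hb,
          ← map_pow, ← map_mul, ← map_add, ← map_mul, Ideal.Quotient.eq_zero_iff_mem,
          Ideal.mem_span_singleton'] at hp
        obtain ⟨c, hc⟩ := hp
        have hcancel : ∀ (i : ℕ) (x : R), t ^ i * x = 0 → x = 0 := fun i => by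
          induction i with
          | zero => simp
          | succ i hi => exact fun x hx => hi x (ht _ (by rw [← hx]; ring))
        obtain ⟨M, hM⟩ : ∃ M, N = j + (M + 1) := ⟨N - j - 1, by omega⟩
        have ha0 : a = t * (c * t ^ M - b) := sub_eq_zero.1 (hcancel j _ (by
          rw [hM] at hc
          linear_combination -hc))
        have h0 : e (q.coeff 0) = 0 := (hσ _ a ha.symm).trans (Ideal.Quotient.eq_zero_iff_mem.2
          (ha0 ▸ Ideal.mul_mem_right _ _ (Ideal.mem_span_singleton_self t)))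
        rw [map_eq_zero_iff e e.injective] at h0
        rw [pow_succ]
        exact mul_dvd_mul_left _ ⟨Polynomial.divX q, by conv_lhs => rw [hq, h0, map_zero, zero_add]⟩
    · rw [Ideal.span_le, Set.singleton_subset_iff, SetLike.mem_coe, RingHom.mem_ker, map_pow, hX,
        ← map_pow, Ideal.Quotient.eq_zero_iff_mem]
      exact Ideal.mem_span_singleton_self _
  exact ⟨(Ideal.quotEquivOfEq hker.symm).trans (RingHom.quotientKerEquivOfSurjective hsurj),
    fun p => rfl⟩

end Trivial

section Rigid

variable {k : Type u} [Field k] (B₀ : Type u) [CommRing B₀] [Algebra k B₀]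
  (hrigid : Subsingleton (CotT.T1 (CotT.canon k B₀) B₀))

include hrigid in
lemma exists_lift_of_rigid {C D : Type u} [CommRing C] [CommRing D] [Algebra k C] [Algebra k D]
    (π : C →ₐ[k] D) (hπ : Function.Surjective π) (hsq : ∀ a b, π a = 0 → π b = 0 → a * b = 0)
    (u : B₀ →ₐ[k] D) (ι : B₀ →+ C) (hι : Function.Injective ι) (hker : ∀ x, π x = 0 ↔ ∃ b, ι b = x)
    (hιmul : ∀ c b b', π c = u b → c * ι b' = ι (b * b')) :
    ∃ v : B₀ →ₐ[k] C, π.comp v = u := by
  let P := canonExt k B₀
  let w : P.Ring →ₐ[k] C := MvPolynomial.aeval (fun b : B₀ => (hπ (u b)).choose)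
  have hw : ∀ p : P.Ring, π (w p) = u (algebraMap P.Ring B₀ p) := by
    have : π.comp w = u.comp (IsScalarTower.toAlgHom k P.Ring B₀) := by
      refine MvPolynomial.algHom_ext fun b => ?_
      show π (w (MvPolynomial.X b)) = u (algebraMap P.Ring B₀ (MvPolynomial.X b))
      rw [show w (MvPolynomial.X b) = (hπ (u b)).choose from MvPolynomial.aeval_X _ b, (hπ (u b)).choose_spec]
      refine congrArg u ?_
      exact (MvPolynomial.aeval_X (R := k) (fun b : B₀ => b) b).symm
    exact fun p => AlgHom.congr_fun this p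
  have hwk : ∀ x : P.ker, ∃ b, ι b = w x := fun x => (hker _).1 (by
    rw [hw, show algebraMap P.Ring B₀ x.1 = 0 from x.2, map_zero])
  choose g hg using hwk
  have hg_add : ∀ x y, g (x + y) = g x + g y := fun x y => hι (by
    rw [map_add, hg, hg, hg, Submodule.coe_add, map_add])
  have hg_smul : ∀ (p : P.Ring) x, g (p • x) = algebraMap P.Ring B₀ p * g x := fun p x => hι (by
    rw [hg, ← hιmul (w p) _ _ (hw p), hg, Submodule.coe_smul, smul_eq_mul, map_mul])
  have hg_sq : ∀ x y : P.ker, Extension.Cotangent.mk x = Extension.Cotangent.mk y → g x = g y := by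
    intro x y hxy
    refine hι ?_
    rw [hg, hg, ← sub_eq_zero, ← map_sub]
    have h1 : x.1 - y.1 ∈ P.ker ^ 2 := by
      have := (Extension.Cotangent.mk_eq_zero_iff (x - y)).1 (by rw [map_sub, hxy, sub_self])
      simpa using this
    rw [sq] at h1
    refine Submodule.mul_induction_on h1 (fun a ha b hb => ?_) (fun a b ha hb => by
      rw [map_add, ha, hb, add_zero])
    rw [map_mul]
    exact hsq _ _ (by rw [hw, show algebraMap P.Ring B₀ a = 0 from ha, map_zero])
      (by rw [hw, show algebraMap P.Ring B₀ b = 0 from hb, map_zero])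
  have hinv : ∀ z : P.Cotangent, Extension.Cotangent.mk
      (Function.surjInv Extension.Cotangent.mk_surjective z) = z := Function.surjInv_eq _
  let φ : P.Cotangent →ₗ[B₀] B₀ :=
    { toFun := fun z => g (Function.surjInv Extension.Cotangent.mk_surjective z)
      map_add' := fun z z' => by
        rw [← hg_add]
        exact hg_sq _ _ (by rw [map_add, hinv, hinv, hinv])
      map_smul' := fun b z => by
        obtain ⟨p, rfl⟩ := P.algebraMap_surjective b
        rw [RingHom.id_apply, smul_eq_mul, ← hg_smul]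
        exact hg_sq _ _ (by
          rw [hinv, map_smul, hinv, algebraMap_smul]) }
  obtain ⟨ψ, hψ⟩ := exists_extend_of_smul_T1_eq_zero (A := k) (B := B₀) (c := 1)
    (fun x => @Subsingleton.elim _ hrigid _ _) φ
  let d : P.Ring → B₀ := fun p => ψ (1 ⊗ₜ KaehlerDifferential.D k P.Ring p)
  have hdmul : ∀ p q, d (p * q) =
      algebraMap P.Ring B₀ p * d q + algebraMap P.Ring B₀ q * d p := fun p q => by
    simp only [d, Derivation.leibniz, TensorProduct.tmul_add, TensorProduct.tmul_smul, map_add]
    rw [← algebraMap_smul B₀ p, ← algebraMap_smul B₀ q, map_smul, map_smul]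
    rfl
  let h : P.Ring →ₐ[k] C :=
    { toFun := fun p => w p - ι (d p)
      map_one' := by simp [d]
      map_mul' := fun p q => by
        rw [map_mul, hdmul, map_add, ← hιmul (w p) _ _ (hw p), ← hιmul (w q) _ _ (hw q)]
        have h0 : ι (d p) * ι (d q) = 0 := hsq _ _ ((hker _).2 ⟨_, rfl⟩) ((hker _).2 ⟨_, rfl⟩)
        linear_combination -h0
      map_zero' := by simp [d]
      map_add' := fun p q => by
        simp only [d, map_add, TensorProduct.tmul_add]
        abel
      commutes' := fun r => by simp [d] }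
  have hkerh : ∀ p ∈ RingHom.ker (IsScalarTower.toAlgHom k P.Ring B₀), h p = 0 := fun p hp => by
    show w p - ι (d p) = 0
    have h1 := LinearMap.congr_fun hψ (Extension.Cotangent.mk (P := P) ⟨p, hp⟩)
    rw [one_smul, LinearMap.comp_apply, Extension.cotangentComplex_mk] at h1
    have h2 : φ (Extension.Cotangent.mk ⟨p, hp⟩) = g ⟨p, hp⟩ := hg_sq _ _ (Function.surjInv_eq _ _)
    rw [show d p = g ⟨p, hp⟩ from h1.symm.trans h2, hg, sub_self]
  have hsurjP : Function.Surjective (IsScalarTower.toAlgHom k P.Ring B₀) := P.algebraMap_surjective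
  refine ⟨(Ideal.Quotient.liftₐ _ h hkerh).comp
    (Ideal.quotientKerAlgEquivOfSurjective hsurjP).symm.toAlgHom, AlgHom.ext fun b => ?_⟩
  obtain ⟨p, rfl⟩ := hsurjP b
  show π (Ideal.Quotient.liftₐ _ h hkerh
    ((Ideal.quotientKerAlgEquivOfSurjective hsurjP).symm (IsScalarTower.toAlgHom k P.Ring B₀ p))) = _
  rw [show (Ideal.quotientKerAlgEquivOfSurjective hsurjP).symm (IsScalarTower.toAlgHom k P.Ring B₀ p) =
    Ideal.Quotient.mk _ p from AlgEquiv.symm_apply_eq _ |>.2 rfl]
  show π (w p - ι (d p)) = _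
  rw [map_sub, hw, (hker (ι (d p))).2 ⟨_, rfl⟩, sub_zero]
  rfl

variable {B₀}
variable {B : Type u} [CommRing B] [Algebra k B]

include hrigid in
lemma exists_section (t : B) (ht : ∀ r, t * r = 0 → r = 0) (e : B₀ ≃ₐ[k] B ⧸ Ideal.span {t}) (j : ℕ) :
    ∃ σ : B₀ →ₐ[k] B ⧸ Ideal.span {t ^ (j + 1)},
      ∀ s r, σ s = Ideal.Quotient.mk _ r → e s = Ideal.Quotient.mk _ r := by
  induction j with
  | zero =>
    let E : (B ⧸ Ideal.span {t}) ≃ₐ[k] B ⧸ Ideal.span {t ^ (0 + 1)} :=
      Ideal.quotientEquivAlgOfEq k (by simp)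
    refine ⟨E.toAlgHom.comp e.toAlgHom, fun s r h => E.injective (h.trans ?_)⟩
    rfl
  | succ j ih =>
    obtain ⟨σ, hσ⟩ := ih
    let π : B ⧸ Ideal.span {t ^ (j + 1 + 1)} →ₐ[k] B ⧸ Ideal.span {t ^ (j + 1)} :=
      Ideal.Quotient.factorₐ k (Ideal.span_singleton_le_span_singleton.2 (pow_dvd_pow t (by omega)))
    have hπmk : ∀ r, π (Ideal.Quotient.mk _ r) = Ideal.Quotient.mk _ r := fun r => rfl
    have hπ : Function.Surjective π := fun y => by
      obtain ⟨r, rfl⟩ := Ideal.Quotient.mk_surjective y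
      exact ⟨Ideal.Quotient.mk _ r, rfl⟩
    have hπ0 : ∀ r, π (Ideal.Quotient.mk _ r) = 0 ↔ t ^ (j + 1) ∣ r := fun r => by
      rw [hπmk, Ideal.Quotient.eq_zero_iff_mem, Ideal.mem_span_singleton]
    let L : B ⧸ Ideal.span {t} → B ⧸ Ideal.span {t ^ (j + 1 + 1)} := fun y =>
      Ideal.Quotient.mk _ (t ^ (j + 1) * Function.surjInv Ideal.Quotient.mk_surjective y)
    have hL : ∀ r, L (Ideal.Quotient.mk _ r) = Ideal.Quotient.mk _ (t ^ (j + 1) * r) := fun r => by
      have h1 : Ideal.Quotient.mk (Ideal.span {t}) (Function.surjInv Ideal.Quotient.mk_surjective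
          (Ideal.Quotient.mk (Ideal.span {t}) r)) = Ideal.Quotient.mk _ r := Function.surjInv_eq _ _
      rw [Ideal.Quotient.eq, Ideal.mem_span_singleton] at h1
      refine Ideal.Quotient.eq.2 (Ideal.mem_span_singleton.2 ?_)
      rw [← mul_sub, pow_succ]
      exact mul_dvd_mul_left _ h1
    have hcancel : ∀ (i : ℕ) (x : B), t ^ i * x = 0 → x = 0 := fun i => by
      induction i with
      | zero => simp
      | succ i hi => exact fun x hx => hi x (ht _ (by rw [← hx]; ring))
    let ι : B₀ →+ B ⧸ Ideal.span {t ^ (j + 1 + 1)} :=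
      { toFun := fun b => L (e b)
        map_zero' := by rw [map_zero, ← map_zero (Ideal.Quotient.mk (Ideal.span {t})), hL]; simp
        map_add' := fun a b => by
          obtain ⟨x, hx⟩ := Ideal.Quotient.mk_surjective (e a)
          obtain ⟨y, hy⟩ := Ideal.Quotient.mk_surjective (e b)
          rw [map_add, ← hx, ← hy, ← map_add, hL, hL, hL, mul_add, map_add] }
    obtain ⟨v, hv⟩ := exists_lift_of_rigid B₀ hrigid π hπ (fun a b ha hb => by
        obtain ⟨x, rfl⟩ := Ideal.Quotient.mk_surjective a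
        obtain ⟨y, rfl⟩ := Ideal.Quotient.mk_surjective b
        obtain ⟨x', rfl⟩ := (hπ0 x).1 ha
        obtain ⟨y', rfl⟩ := (hπ0 y).1 hb
        rw [← map_mul, Ideal.Quotient.eq_zero_iff_mem, Ideal.mem_span_singleton]
        exact ⟨t ^ j * x' * y', by ring⟩)
      σ ι (fun a b hab => by
        obtain ⟨x, hx⟩ := Ideal.Quotient.mk_surjective (e a)
        obtain ⟨y, hy⟩ := Ideal.Quotient.mk_surjective (e b)
        refine e.injective ?_
        change L (e a) = L (e b) at hab
        rw [← hx, ← hy, hL, hL, Ideal.Quotient.eq, Ideal.mem_span_singleton'] at hab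
        obtain ⟨c, hc⟩ := hab
        rw [← hx, ← hy, Ideal.Quotient.eq, Ideal.mem_span_singleton']
        exact ⟨c, sub_eq_zero.1 (hcancel (j + 1) _ (by linear_combination hc))⟩)
      (fun x => by
        constructor
        · intro hx
          obtain ⟨r, rfl⟩ := Ideal.Quotient.mk_surjective x
          obtain ⟨r', rfl⟩ := (hπ0 r).1 hx
          exact ⟨e.symm (Ideal.Quotient.mk _ r'), by
            show L (e (e.symm _)) = _
            rw [e.apply_symm_apply, hL]⟩
        · rintro ⟨b, rfl⟩
          obtain ⟨y, hy⟩ := Ideal.Quotient.mk_surjective (e b)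
          show π (L (e b)) = 0
          rw [← hy, hL, hπ0]
          exact dvd_mul_right _ _)
      (fun c b b' hc => by
        obtain ⟨r, rfl⟩ := Ideal.Quotient.mk_surjective c
        obtain ⟨y, hy⟩ := Ideal.Quotient.mk_surjective (e b')
        show _ * L (e b') = L (e (b * b'))
        rw [map_mul, hσ b r (hc.symm.trans (hπmk r)), ← hy, hL, ← map_mul (Ideal.Quotient.mk (Ideal.span {t})), hL,
          ← map_mul]
        congr 1
        ring)
    refine ⟨v, fun s r h => hσ s r ?_⟩
    rw [← hv]
    show π (v s) = _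
    rw [h, hπmk]

end Rigid

section Main

variable {k : Type u} [Field k] [IsAlgClosed k]

theorem smooth_special_fibre (B₀ : Type u) [CommRing B₀] [Algebra k B₀] [Algebra.FiniteType k B₀]
    (hrigid : Subsingleton (CotT.T1 (CotT.canon k B₀) B₀))
    (A B : Type u) [CommRing A] [CommRing B] [IsDomain A] [Algebra k A] [Algebra.FiniteType k A]
    (t : A) (ht : (Ideal.span {t}).IsMaximal) (ht0 : t ≠ 0)
    [Algebra A B] [Algebra.FiniteType A B] [Module.Flat A B] [Algebra k B] [IsScalarTower k A B]
    (e : (B ⧸ Ideal.span {algebraMap A B t}) ≃ₐ[k] B₀)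
    (hsm : ∀ q : PrimeSpectrum B, algebraMap A B t ∉ q.asIdeal → q ∈ Algebra.smoothLocus A B) :
    Algebra.Smooth k B₀ := by
  suffices Algebra.FormallySmooth k B₀ from
    { formallySmooth := this
      finitePresentation := Algebra.FinitePresentation.of_finiteType.mp inferInstance }
  haveI : IsNoetherianRing A := Algebra.FiniteType.isNoetherianRing k A
  set tB := algebraMap A B t with htB
  obtain ⟨m, f, hf⟩ := Algebra.FiniteType.iff_quotient_mvPolynomial''.1 ‹Algebra.FiniteType A B›
  let G : Generators A B (Fin m) := .ofSurjective (fun i => f (MvPolynomial.X i)) (by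
    rw [show MvPolynomial.aeval (fun i => f (MvPolynomial.X i)) = f from (MvPolynomial.aeval_unique f).symm]
    exact hf)
  let Q : Extension.{u} A B := G.toExtension
  haveI : IsNoetherianRing Q.Ring := inferInstanceAs (IsNoetherianRing (MvPolynomial (Fin m) A))
  obtain ⟨n, l, hl⟩ := exists_splitUpTo_of_smooth Q (IsNoetherian.noetherian _)
    (Generators.defaultHom G (Generators.self A B)).toExtensionHom
    (Generators.defaultHom (Generators.self A B) G).toExtensionHom tB hsm
  have hnzd : ∀ r, tB * r = 0 → r = 0 := fun r hr => by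
    have := (Module.Flat.isSMulRegular_of_isRegular (M := B) (IsRegular.of_ne_zero ht0))
    exact this (show t • r = t • (0 : B) by rw [smul_zero, Algebra.smul_def]; exact hr)
  -- the trivializations
  haveI := ht
  have hkbij : Function.Bijective (algebraMap k (A ⧸ Ideal.span {t})) := by
    letI := Ideal.Quotient.field (Ideal.span {t})
    haveI : Algebra.FiniteType k (A ⧸ Ideal.span {t}) :=
      .of_surjective (Ideal.Quotient.mkₐ k _) Ideal.Quotient.mk_surjective
    haveI : Module.Finite k (A ⧸ Ideal.span {t}) := finite_of_finite_type_of_isJacobsonRing k _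
    exact IsAlgClosed.algebraMap_bijective_of_isIntegral
  let eA : k ≃ₐ[k] A ⧸ Ideal.span {t} := AlgEquiv.ofBijective (Algebra.ofId k _) hkbij
  obtain ⟨ΦA, hΦA⟩ := exists_truncEquiv t
    (fun r hr => (mul_eq_zero.1 hr).resolve_left ht0) (n + 1) (by omega)
    (Algebra.ofId k (A ⧸ Ideal.span {t ^ (n + 1)})) eA (fun s r h => by
      have := congrArg (Ideal.Quotient.factor (Ideal.span_singleton_le_span_singleton.2
        (dvd_pow_self t (Nat.succ_ne_zero n)))) h
      exact this)
  obtain ⟨σ, hσ⟩ := exists_section hrigid tB hnzd e.symm n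
  obtain ⟨ΦB, hΦB⟩ := exists_truncEquiv tB hnzd (n + 1) (by omega) σ e.symm hσ
  refine Algebra.FormallySmooth.of_comp_surjective fun C _ _ J hJ u => ?_
  let ρ : Trunc C (n + 1) →+* Trunc (C ⧸ J) (n + 1) := truncMap (Ideal.Quotient.mk J)
  let ut : B →+* Trunc (C ⧸ J) (n + 1) :=
    (truncMap u.toRingHom).comp (ΦB.symm.toRingHom.comp (Ideal.Quotient.mk _))
  let algA : A →+* Trunc C (n + 1) :=
    (truncMap (algebraMap k C)).comp (ΦA.symm.toRingHom.comp (Ideal.Quotient.mk _))
  letI : Algebra A (Trunc C (n + 1)) := algA.toAlgebra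
  have hcomm : ∀ a, ρ (algA a) = ut (algebraMap A B a) := by
    intro a
    obtain ⟨p, hp⟩ := Ideal.Quotient.mk_surjective (ΦA.symm (Ideal.Quotient.mk _ a))
    have hp' : substT t (n + 1) (Algebra.ofId k _) p = Ideal.Quotient.mk _ a := by
      rw [← hΦA, hp, RingEquiv.apply_symm_apply]
    let qm : A ⧸ Ideal.span {t ^ (n + 1)} →+* B ⧸ Ideal.span {tB ^ (n + 1)} :=
      Ideal.quotientMap _ (algebraMap A B) (Ideal.span_le.2 (by
        rw [Set.singleton_subset_iff, SetLike.mem_coe, Ideal.mem_comap, map_pow]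
        exact Ideal.mem_span_singleton_self _))
    have hnat : ∀ p : Polynomial k, qm (substT t (n + 1) (Algebra.ofId k _) p) =
        substT tB (n + 1) σ (p.map (algebraMap k B₀)) := by
      have : qm.comp (substT t (n + 1) (Algebra.ofId k _)) =
          (substT tB (n + 1) σ).comp (Polynomial.mapRingHom (algebraMap k B₀)) := by
        refine Polynomial.ringHom_ext (fun c => ?_) ?_
        · simp only [RingHom.comp_apply, Polynomial.coe_mapRingHom, Polynomial.map_C, substT,
            Polynomial.coe_eval₂RingHom, Polynomial.eval₂_C]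
          show qm (algebraMap k _ c) = σ (algebraMap k B₀ c)
          rw [AlgHom.commutes]
          exact congrArg (Ideal.Quotient.mk _) (IsScalarTower.algebraMap_apply k A B c).symm
        · simp only [RingHom.comp_apply, Polynomial.coe_mapRingHom, Polynomial.map_X, substT,
            Polynomial.coe_eval₂RingHom, Polynomial.eval₂_X]
          rfl
      exact fun p => RingHom.congr_fun this p
    have hB : ΦB.symm (Ideal.Quotient.mk _ (algebraMap A B a)) =
        Ideal.Quotient.mk _ (p.map (algebraMap k B₀)) := by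
      rw [RingEquiv.symm_apply_eq, hΦB, ← hnat, hp']
      rfl
    show ρ (truncMap _ (ΦA.symm _)) = truncMap u.toRingHom (ΦB.symm _)
    rw [hB, ← hp, truncMap_mk, truncMap_mk, truncMap_mk, Polynomial.map_map, Polynomial.map_map]
    congr 2
    exact RingHom.ext fun c => ((u.commutes c).trans rfl).symm
  have hρsurj := truncMap_surjective (N := n + 1) (Ideal.Quotient.mk J) Ideal.Quotient.mk_surjective
  let w : Q.Ring →ₐ[A] Trunc C (n + 1) :=
    MvPolynomial.aeval (fun i : Fin m => (hρsurj (ut (G.val i))).choose)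
  have hw : ∀ p, ρ (w p) = ut (algebraMap Q.Ring B p) := by
    have : ρ.comp w.toRingHom = ut.comp (algebraMap Q.Ring B) := by
      refine MvPolynomial.ringHom_ext (fun a => ?_) (fun i => ?_)
      · show ρ (w (MvPolynomial.C a)) = ut (algebraMap Q.Ring B (MvPolynomial.C a))
        rw [show w (MvPolynomial.C a) = algA a from MvPolynomial.aeval_C _ a]
        exact (hcomm a).trans (congrArg ut (MvPolynomial.aeval_C _ a).symm)
      · show ρ (w (MvPolynomial.X i)) = ut (algebraMap Q.Ring B (MvPolynomial.X i))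
        rw [show w (MvPolynomial.X i) = (hρsurj (ut (G.val i))).choose from MvPolynomial.aeval_X _ i]
        exact (hρsurj (ut (G.val i))).choose_spec.trans (congrArg ut (MvPolynomial.aeval_X _ i).symm)
    exact fun p => RingHom.congr_fun this p
  have hJmul : ∀ a b : C, Ideal.Quotient.mk J a = 0 → Ideal.Quotient.mk J b = 0 → a * b = 0 :=
    fun a b ha hb => by
      have h1 := Ideal.mul_mem_mul (Ideal.Quotient.eq_zero_iff_mem.1 ha) (Ideal.Quotient.eq_zero_iff_mem.1 hb)
      rwa [← sq, hJ, Ideal.mem_bot] at h1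
  have hsq := mul_eq_zero_of_truncMap (N := n + 1) (Ideal.Quotient.mk J) hJmul
  have hwker : ∀ x ∈ Q.ker, ρ (w x) = 0 := fun x hx => by
    rw [hw, show algebraMap Q.Ring B x = 0 from hx, map_zero]
  have hWwd : ∀ x y : Q.ker, Extension.Cotangent.mk x = Extension.Cotangent.mk y → w x = w y := by
    intro x y hxy
    have h1 : x.1 - y.1 ∈ Q.ker ^ 2 := by
      have := (Extension.Cotangent.mk_eq_zero_iff (x - y)).1 (by rw [map_sub, hxy, sub_self])
      simpa using this
    rw [← sub_eq_zero, ← map_sub]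
    rw [sq] at h1
    refine Submodule.mul_induction_on h1 (fun a ha b hb => ?_) (fun a b ha hb => by
      rw [map_add, ha, hb, add_zero])
    rw [map_mul]
    exact hsq _ _ (hwker a ha) (hwker b hb)
  let W : Q.Cotangent → Trunc C (n + 1) :=
    fun z => w (Function.surjInv Extension.Cotangent.mk_surjective z).1
  have hW : ∀ x : Q.ker, W (Extension.Cotangent.mk x) = w x := fun x => hWwd _ _ (Function.surjInv_eq _ _)
  have hW_add : ∀ z z', W (z + z') = W z + W z' := fun z z' => by
    obtain ⟨x, rfl⟩ := Extension.Cotangent.mk_surjective z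
    obtain ⟨y, rfl⟩ := Extension.Cotangent.mk_surjective z'
    rw [← map_add, hW, hW, hW, Submodule.coe_add, map_add]
  have hW_smul : ∀ (p : Q.Ring) z, W (algebraMap Q.Ring B p • z) = w p * W z := fun p z => by
    obtain ⟨x, rfl⟩ := Extension.Cotangent.mk_surjective z
    rw [algebraMap_smul, ← map_smul, hW, hW, Submodule.coe_smul, smul_eq_mul, map_mul]
  have hWker : ∀ z, ρ (W z) = 0 := fun z => hwker _ (Function.surjInv Extension.Cotangent.mk_surjective z).2
  let δ : Q.Ring → Trunc C (n + 1) := fun p => W (l ((1 : B) ⊗ₜ KaehlerDifferential.D A Q.Ring p))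
  have hδadd : ∀ p q, δ (p + q) = δ p + δ q := fun p q => by
    simp only [δ, map_add, TensorProduct.tmul_add, hW_add]
  have hδmul : ∀ p q, δ (p * q) = w p * δ q + w q * δ p := fun p q => by
    simp only [δ, Derivation.leibniz, TensorProduct.tmul_add, TensorProduct.tmul_smul, map_add, hW_add]
    rw [← algebraMap_smul B p, ← algebraMap_smul B q, map_smul, map_smul, hW_smul, hW_smul]
  have hδC : ∀ a, δ (algebraMap A Q.Ring a) = 0 := fun a => by
    simp only [δ, Derivation.map_algebraMap, TensorProduct.tmul_zero, map_zero]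
    have := hW_add 0 0
    rwa [add_zero, left_eq_add] at this
  let T := algebraMap A Q.Ring t
  have hwT : w T = Ideal.Quotient.mk _ Polynomial.X := by
    rw [AlgHom.commutes]
    show truncMap _ (ΦA.symm (Ideal.Quotient.mk _ t)) = _
    rw [show ΦA.symm (Ideal.Quotient.mk _ t) = Ideal.Quotient.mk _ Polynomial.X from by
      rw [RingEquiv.symm_apply_eq, hΦA]; exact (Polynomial.eval₂_X _ _).symm, truncMap_mk, Polynomial.map_X]
  have hδker : ∀ x ∈ Q.ker, δ x = Ideal.Quotient.mk _ (Polynomial.X ^ n) * w x := fun x hx => by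
    have h1 : l ((1 : B) ⊗ₜ KaehlerDifferential.D A Q.Ring x) =
        algebraMap Q.Ring B (T ^ n) • Extension.Cotangent.mk ⟨x, hx⟩ := by
      rw [map_pow, ← IsScalarTower.algebraMap_apply A Q.Ring B t]
      exact LinearMap.congr_fun hl (Extension.Cotangent.mk (P := Q) ⟨x, hx⟩)
    show W _ = _
    rw [h1, hW_smul, hW, map_pow, hwT, map_pow]
  have hn : n < n + 1 := Nat.lt_succ_self n
  have h0 : 0 < n + 1 := Nat.succ_pos n
  let θ : Q.Ring → C := fun p => cf 0 (w p) - cf n (δ p)
  have hθadd : ∀ p q, θ (p + q) = θ p + θ q := fun p q => by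
    simp only [θ, map_add, hδadd, cf_add hn, cf_add h0]
    abel
  have hθker : ∀ x ∈ Q.ker, θ x = 0 := fun x hx => by
    simp only [θ, hδker x hx, cf_X_pow_mul hn, sub_self]
  have hθT : ∀ p, θ (T ^ (n + 1) * p) = 0 := fun p => by
    have hz : w (T ^ (n + 1)) = 0 := by
      rw [map_pow, hwT, ← map_pow, Ideal.Quotient.eq_zero_iff_mem]
      exact Ideal.mem_span_singleton_self _
    have hd : δ (T ^ (n + 1)) = 0 := by
      show δ (algebraMap A Q.Ring t ^ (n + 1)) = 0
      rw [← map_pow, hδC]
    have hc : ∀ i, i < n + 1 → cf i (0 : Trunc C (n + 1)) = 0 := fun i hi => by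
      rw [← map_zero (Ideal.Quotient.mk _), cf_mk hi, Polynomial.coeff_zero]
    simp only [θ, map_mul, hδmul, hz, hd, zero_mul, mul_zero, add_zero, hc _ h0, hc _ hn, sub_zero]
  have hex : ∀ b : B₀, ∃ p : Q.Ring,
      ΦB.symm (Ideal.Quotient.mk _ (algebraMap Q.Ring B p)) = Ideal.Quotient.mk _ (Polynomial.C b) := by
    intro b
    obtain ⟨y, hy⟩ := Ideal.Quotient.mk_surjective (ΦB (Ideal.Quotient.mk _ (Polynomial.C b)))
    obtain ⟨p, rfl⟩ := Q.algebraMap_surjective y
    exact ⟨p, by rw [hy, RingEquiv.symm_apply_apply]⟩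
  choose pb hpb using hex
  have huniq : ∀ b p, ΦB.symm (Ideal.Quotient.mk _ (algebraMap Q.Ring B p)) =
      Ideal.Quotient.mk _ (Polynomial.C b) → θ p = θ (pb b) := fun b p hp => by
    have h1 := ΦB.symm.injective (hp.trans (hpb b).symm)
    rw [Ideal.Quotient.eq, Ideal.mem_span_singleton'] at h1
    obtain ⟨c, hc⟩ := h1
    obtain ⟨q, rfl⟩ := Q.algebraMap_surjective c
    have hx : p - pb b - T ^ (n + 1) * q ∈ Q.ker := by
      show algebraMap Q.Ring B _ = 0
      rw [map_sub, map_sub, map_mul, map_pow, ← IsScalarTower.algebraMap_apply A Q.Ring B t, ← hc]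
      ring
    have e1 : p = pb b + T ^ (n + 1) * q + (p - pb b - T ^ (n + 1) * q) := by abel
    rw [e1, hθadd, hθadd, hθT, hθker _ hx, add_zero, add_zero]
  have hρw : ∀ b p, ΦB.symm (Ideal.Quotient.mk _ (algebraMap Q.Ring B p)) =
      Ideal.Quotient.mk _ (Polynomial.C b) → ρ (w p) = Ideal.Quotient.mk _ (Polynomial.C (u b)) :=
    fun b p hp => by
      rw [hw]
      show truncMap u.toRingHom (ΦB.symm _) = _
      rw [hp, truncMap_mk, Polynomial.map_C]
      rfl
  have hcfmk : ∀ b p, ΦB.symm (Ideal.Quotient.mk _ (algebraMap Q.Ring B p)) =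
      Ideal.Quotient.mk _ (Polynomial.C b) → Ideal.Quotient.mk J (cf 0 (w p)) = u b := fun b p hp => by
    rw [← cf_truncMap _ h0]
    show cf 0 (ρ (w p)) = _
    rw [hρw b p hp, cf_mk h0, Polynomial.coeff_C_zero]
  have hδJ : ∀ p, Ideal.Quotient.mk J (cf n (δ p)) = 0 := fun p => by
    rw [← cf_truncMap _ hn]
    show cf n (ρ (W _)) = 0
    rw [hWker, ← map_zero (Ideal.Quotient.mk _), cf_mk hn, Polynomial.coeff_zero]
  have hθmul : ∀ b b' p q, ΦB.symm (Ideal.Quotient.mk _ (algebraMap Q.Ring B p)) =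
      Ideal.Quotient.mk _ (Polynomial.C b) → ΦB.symm (Ideal.Quotient.mk _ (algebraMap Q.Ring B q)) =
      Ideal.Quotient.mk _ (Polynomial.C b') → θ (p * q) = θ p * θ q := fun b b' p q hp hq => by
    have key : ∀ b p q, ΦB.symm (Ideal.Quotient.mk _ (algebraMap Q.Ring B p)) =
        Ideal.Quotient.mk _ (Polynomial.C b) → cf n (w p * δ q) = cf 0 (w p) * cf n (δ q) :=
      fun b p q hp => by
        have hr : ρ (w p - Ideal.Quotient.mk _ (Polynomial.C (cf 0 (w p)))) = 0 := by
          rw [map_sub, hρw b p hp]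
          show _ - truncMap _ _ = 0
          rw [truncMap_mk, Polynomial.map_C, hcfmk b p hp, sub_self]
        have hz := hsq _ (δ q) hr (hWker _)
        rw [sub_mul, sub_eq_zero] at hz
        rw [hz, cf_C_mul hn]
    have hjj := hJmul _ _ (hδJ p) (hδJ q)
    simp only [θ, map_mul, hδmul, cf_add hn, key b p q hp, key b' q p hq, cf_zero_mul h0]
    linear_combination -hjj
  have hone : ∀ r : k, θ (algebraMap A Q.Ring (algebraMap k A r)) = algebraMap k C r ∧
      ΦB.symm (Ideal.Quotient.mk _ (algebraMap Q.Ring B (algebraMap A Q.Ring (algebraMap k A r)))) =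
        Ideal.Quotient.mk _ (Polynomial.C (algebraMap k B₀ r)) := fun r => by
    refine ⟨?_, ?_⟩
    · have hc : cf n (0 : Trunc C (n + 1)) = 0 := by
        rw [← map_zero (Ideal.Quotient.mk _), cf_mk hn, Polynomial.coeff_zero]
      simp only [θ, hδC, hc, sub_zero, AlgHom.commutes]
      show cf 0 (truncMap _ (ΦA.symm (Ideal.Quotient.mk _ (algebraMap k A r)))) = _
      rw [show ΦA.symm (Ideal.Quotient.mk _ (algebraMap k A r)) = Ideal.Quotient.mk _ (Polynomial.C r)
        from by rw [RingEquiv.symm_apply_eq, hΦA]; simp [substT],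
        truncMap_mk, cf_mk h0, Polynomial.map_C, Polynomial.coeff_C_zero]
    · rw [← IsScalarTower.algebraMap_apply A Q.Ring B, ← IsScalarTower.algebraMap_apply k A B,
        RingEquiv.symm_apply_eq, hΦB]
      refine Eq.trans ?_ (Polynomial.eval₂_C _ _).symm
      exact (σ.commutes r).symm
  have hval : ∀ r : k, θ (pb (algebraMap k B₀ r)) = algebraMap k C r := fun r =>
    ((huniq _ _ (hone r).2).symm).trans (hone r).1
  refine ⟨{ toFun := fun b => θ (pb b)
            map_one' := by simpa using hval 1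
            map_zero' := by simpa using hval 0
            map_mul' := fun b b' => by
              rw [← hθmul b b' _ _ (hpb b) (hpb b')]
              refine (huniq _ _ ?_).symm
              rw [map_mul, map_mul, map_mul, hpb, hpb, map_mul, map_mul]
            map_add' := fun b b' => by
              rw [← hθadd]
              refine (huniq _ _ ?_).symm
              rw [map_add, map_add, map_add, hpb, hpb, map_add, map_add]
            commutes' := hval }, AlgHom.ext fun b => ?_⟩
  show Ideal.Quotient.mk J (cf 0 (w (pb b)) - cf n (δ (pb b))) = u b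
  rw [map_sub, hδJ, sub_zero, hcfmk b _ (hpb b)]

end Main

end Groth.Agent.CotSplit
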